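/-
The standard automorphisms of `PSp_{2m}(F)` and the calculus of projective symplectic transvections.
-/
import Mathlib
import Cfsg.Prelude.Def_LieTypeDatum
import Cfsg.Agent.Lib.Classical.SymplecticMatrix
import Cfsg.Agent.Lib.Classical.SymplecticSimple

set_option autoImplicit false

namespace Cfsg.Lib.Classical.PSpAut

open Matrix
open Cfsg.Lib.Classical (sympBilin sympBilin_isAlt sympBilin_apply sTGL sTGL_mulVec sTGL_mem_spGL
  mem_symplecticGroup_iff_spGL mem_spGL_iff spToGL coe_spToGL spToGL_range gl_ext)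
open scoped MatrixGroups

variable {F : Type*} [Field F] {m : ℕ}

set_option quotPrecheck false in
local notation "V" => (Fin m ⊕ Fin m → F)
set_option quotPrecheck false in
local notation "Sp" => (↥(Matrix.symplecticGroup (Fin m) F))
set_option quotPrecheck false in
local notation "PS" => (Cfsg.PSp m F)
set_option quotPrecheck false in
local notation "ω" => sympBilin F m

theorem swap (u v : V) : ω v u = - ω u v := SpSimple.swap u v

@[simp] theorem self (u : V) : ω u u = 0 := SpSimple.self u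

theorem exists_eq_one {v : V} (hv : v ≠ 0) : ∃ z, ω z v = 1 := by
  obtain ⟨z, hz⟩ := SpSimple.exists_eq_one hv
  exact ⟨-z, by simp [swap v z, hz]⟩

theorem eq_zero_of_forall {v : V} (h : ∀ x, ω x v = 0) : v = 0 := by
  by_contra hv
  obtain ⟨z, hz⟩ := exists_eq_one hv
  rw [h] at hz
  exact zero_ne_one hz

theorem ext_sp {a b : Sp} (h : ∀ x, a.1 *ᵥ x = b.1 *ᵥ x) : a = b :=
  Subtype.ext (ext_mulVec h)

theorem mul_mulVec (a b : Sp) (x : V) : (a * b : Sp).1 *ᵥ x = a.1 *ᵥ (b.1 *ᵥ x) :=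
  (mulVec_mulVec x a.1 b.1).symm

theorem inv_mulVec (a : Sp) (x : V) : (a⁻¹ : Sp).1 *ᵥ (a.1 *ᵥ x) = x := by
  rw [← mul_mulVec, inv_mul_cancel]
  exact one_mulVec x

theorem mulVec_inv (a : Sp) (x : V) : a.1 *ᵥ ((a⁻¹ : Sp).1 *ᵥ x) = x := by
  rw [← mul_mulVec, mul_inv_cancel]
  exact one_mulVec x

theorem iso (a : Sp) (x y : V) : ω (a.1 *ᵥ x) (a.1 *ᵥ y) = ω x y := by
  have h : spToGL a ∈ Cfsg.spGL m F := spToGL_range (F := F) (m := m) ▸ ⟨a, rfl⟩
  simpa using mem_spGL_iff.1 h x y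

theorem mulVec_ne_zero (a : Sp) {x : V} (hx : x ≠ 0) : a.1 *ᵥ x ≠ 0 := fun e => hx (by
  rw [← inv_mulVec a x, e, mulVec_zero])

/-- The transvection `x ↦ x + c ω(x, v) v`. -/
noncomputable def tS (v : V) (c : F) : Sp :=
  ⟨(sTGL ω (sympBilin_isAlt F m) v c : GL (Fin m ⊕ Fin m) F).1,
    (mem_symplecticGroup_iff_spGL _).2 (sTGL_mem_spGL v c)⟩

@[simp] theorem tS_mulVec (v : V) (c : F) (x : V) : (tS v c).1 *ᵥ x = x + (c * ω x v) • v :=
  sTGL_mulVec _ _ _ _ _

theorem tS_add (v : V) (c d : F) : tS v c * tS v d = tS v (c + d) := ext_sp fun x => by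
  rw [mul_mulVec]; simp only [tS_mulVec, map_add, map_smul, LinearMap.add_apply, LinearMap.smul_apply, self,
    smul_zero, add_zero, add_mul, add_smul]; abel

theorem tS_zero (v : V) : tS v (0 : F) = 1 := ext_sp fun x => by simp

theorem tS_zero_left (c : F) : tS (0 : V) c = 1 := ext_sp fun x => by simp

theorem tS_inv (v : V) (c : F) : (tS v c)⁻¹ = tS v (-c) :=
  inv_eq_of_mul_eq_one_right (by rw [tS_add, add_neg_cancel, tS_zero])

theorem tS_smul (v : V) (r c : F) : tS (r • v) c = tS v (r * r * c) := ext_sp fun x => by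
  simp only [tS_mulVec, map_smul, smul_eq_mul, smul_smul]
  congr 2
  ring

theorem conj_tS (a : Sp) (v : V) (c : F) : a * tS v c * a⁻¹ = tS (a.1 *ᵥ v) c := by
  rw [mul_inv_eq_iff_eq_mul]
  refine ext_sp fun x => ?_
  rw [mul_mulVec, mul_mulVec, tS_mulVec, tS_mulVec, iso, mulVec_add, mulVec_smul]

theorem tS_fix {v x : V} (h : ω x v = 0) (c : F) : (tS v c).1 *ᵥ x = x := by simp [h]

theorem eq_param {v w : V} {a b : F} (ha : a ≠ 0) (hv : v ≠ 0) (h : tS v a = tS w b) :
    ∃ r : F, v = r • w ∧ b = r * r * a := by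
  obtain ⟨x, hx⟩ := exists_eq_one hv
  have e1 : (tS v a).1 *ᵥ x = (tS w b).1 *ᵥ x := by rw [h]
  rw [tS_mulVec, tS_mulVec, hx, mul_one, add_right_inj] at e1
  have hr : v = (a⁻¹ * (b * ω x w)) • w := by rw [mul_smul, ← e1, smul_smul, inv_mul_cancel₀ ha, one_smul]
  refine ⟨_, hr, ?_⟩
  have hw : w ≠ 0 := fun e => hv (by rw [hr, e, smul_zero])
  obtain ⟨y, hy⟩ := exists_eq_one hw
  have e2 : (tS v a).1 *ᵥ y = (tS w b).1 *ᵥ y := by rw [h]
  rw [hr, tS_smul, tS_mulVec, tS_mulVec, hy, mul_one, mul_one, add_right_inj] at e2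
  exact (smul_left_injective F hw e2).symm

theorem exists_perp_pair (hm : 2 ≤ m) (v w : V) : ∃ x : V, x ≠ 0 ∧ ω x v = 0 ∧ ω x w = 0 := by
  let L : V →ₗ[F] Fin 2 → F := LinearMap.pi ![(ω).flip v, (ω).flip w]
  have hL : LinearMap.ker L ≠ ⊥ := by
    intro h
    have h1 := LinearMap.finrank_le_finrank_of_injective (LinearMap.ker_eq_bot.1 h)
    rw [Module.finrank_fintype_fun_eq_card, Module.finrank_fintype_fun_eq_card, Fintype.card_sum,
      Fintype.card_fin, Fintype.card_fin] at h1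
    omega
  obtain ⟨x, hx, hx0⟩ := Submodule.exists_mem_ne_zero_of_ne_bot hL
  have h := LinearMap.mem_ker.1 hx
  exact ⟨x, hx0, congrFun h 0, congrFun h 1⟩

theorem center_scalar {z : Sp} (hz : z ∈ Subgroup.center Sp) :
    ∀ x : V, x ≠ 0 → ∃ r : F, r * r = 1 ∧ z.1 = r • (1 : Matrix (Fin m ⊕ Fin m) (Fin m ⊕ Fin m) F) := by
  intro x0 hx0
  have key : ∀ v x : V, ω x v • (z.1 *ᵥ v) = ω (z.1 *ᵥ x) v • v := by
    intro v x
    have e : (z * tS v 1).1 *ᵥ x = (tS v 1 * z).1 *ᵥ x := by rw [Subgroup.mem_center_iff.1 hz]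
    rw [mul_mulVec, mul_mulVec, tS_mulVec, tS_mulVec, mulVec_add, mulVec_smul, one_mul, one_mul, add_right_inj] at e
    exact e
  have hex : ∀ v : V, v ≠ 0 → ∃ r : F, z.1 *ᵥ v = r • v := by
    intro v hv
    obtain ⟨x, hx⟩ := exists_eq_one hv
    exact ⟨ω (z.1 *ᵥ x) v, by simpa [hx] using key v x⟩
  choose r hr using hex
  have hnon : ∀ x v : V, ∀ (hx : x ≠ 0) (hv : v ≠ 0), ω x v ≠ 0 → r v hv = r x hx := by
    intro x v hx hv hne
    have e := key v x
    rw [hr v hv, hr x hx, map_smul, LinearMap.smul_apply, smul_eq_mul, smul_smul] at e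
    refine mul_left_cancel₀ hne ?_
    rw [smul_left_injective F hv e]
    ring
  have hall : ∀ v : V, z.1 *ᵥ v = r x0 hx0 • v := by
    intro v
    by_cases hv : v = 0
    · simp [hv]
    obtain ⟨y, h1, h2⟩ := SpSimple.exists_ne_zero_ne_zero hx0 hv
    have hy : y ≠ 0 := fun e => h1 (by simp [e])
    rw [hr v hv, ← hnon x0 y hx0 hy h1, ← hnon v y hv hy h2]
  refine ⟨r x0 hx0, ?_, ext_mulVec fun v => ?_⟩
  · obtain ⟨y, hy⟩ := exists_eq_one hx0
    have e := iso z y x0
    rw [hall, hall, map_smul, map_smul, LinearMap.smul_apply, hy, smul_eq_mul, smul_eq_mul, mul_one] at e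
    exact e
  · rw [hall, smul_mulVec, one_mulVec]

theorem scalar_mem_center {z : Sp} {r : F} (h : z.1 = r • (1 : Matrix (Fin m ⊕ Fin m) (Fin m ⊕ Fin m) F)) :
    z ∈ Subgroup.center Sp := by
  refine Subgroup.mem_center_iff.2 fun g => ext_sp fun x => ?_
  rw [mul_mulVec, mul_mulVec, h, smul_mulVec, smul_mulVec, one_mulVec, one_mulVec, mulVec_smul]

theorem mk_eq_iff (hm : 1 ≤ m) {a b : Sp} :
    (QuotientGroup.mk a : PS) = QuotientGroup.mk b ↔ ∃ r : F, r * r = 1 ∧ b.1 = r • a.1 := by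
  rw [QuotientGroup.eq]
  constructor
  · intro h
    obtain ⟨r, hr, hz⟩ := center_scalar h (Pi.single (Sum.inl ⟨0, hm⟩) 1) (by simp)
    refine ⟨r, hr, ?_⟩
    have e : b = a * (a⁻¹ * b) := by group
    rw [e]
    show a.1 * (a⁻¹ * b : Sp).1 = _
    rw [hz, mul_smul_comm, mul_one]
  · rintro ⟨r, -, h⟩
    refine scalar_mem_center (r := r) ?_
    show (a⁻¹ : Sp).1 * b.1 = _
    rw [h, mul_smul_comm, show (a⁻¹ : Sp).1 * a.1 = 1 from congrArg Subtype.val (inv_mul_cancel a)]

theorem eq_of_mk_eq (hm : 1 ≤ m) {a b : Sp} {x : V} (hx : x ≠ 0) (ha : a.1 *ᵥ x = x) (hb : b.1 *ᵥ x = x)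
    (h : (QuotientGroup.mk a : PS) = QuotientGroup.mk b) : a = b := by
  obtain ⟨r, -, hr⟩ := (mk_eq_iff hm).1 h
  have h2 : r • x = x := by
    have h3 := hb
    rwa [hr, smul_mulVec, ha] at h3
  have hr1 : r = 1 := smul_left_injective F hx (show r • x = (1 : F) • x by rw [h2, one_smul])
  exact Subtype.ext (by rw [hr, hr1, one_smul])

/-- A projective transvection. -/
noncomputable def P (v : V) (c : F) : PS := QuotientGroup.mk (tS v c)

theorem P_eq (v : V) (c : F) : P v c = QuotientGroup.mk (tS v c) := rfl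

theorem P_add (v : V) (c d : F) : P v c * P v d = P v (c + d) := by
  rw [P, P, P, ← QuotientGroup.mk_mul, tS_add]

theorem P_zero (v : V) : P v (0 : F) = 1 := by rw [P, tS_zero]; rfl

theorem P_smul (v : V) (r c : F) : P (r • v) c = P v (r * r * c) := by rw [P, P, tS_smul]

theorem tS_of_P_eq (hm : 2 ≤ m) {v w : V} {a b : F} (h : P v a = P w b) : tS v a = tS w b := by
  obtain ⟨x, hx, h1, h2⟩ := exists_perp_pair hm v w
  exact eq_of_mk_eq (by omega) hx (tS_fix h1 a) (tS_fix h2 b) h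

theorem P_eq_param (hm : 2 ≤ m) {v w : V} {a b : F} (ha : a ≠ 0) (hv : v ≠ 0) (h : P v a = P w b) :
    ∃ r : F, v = r • w ∧ b = r * r * a := eq_param ha hv (tS_of_P_eq hm h)

theorem P_injective (hm : 2 ≤ m) {v : V} (hv : v ≠ 0) : Function.Injective (P (F := F) v) := by
  intro a b h
  obtain ⟨x, hx⟩ := exists_eq_one hv
  have e : (tS v a).1 *ᵥ x = (tS v b).1 *ᵥ x := by rw [tS_of_P_eq hm h]
  rw [tS_mulVec, tS_mulVec, hx, mul_one, mul_one, add_right_inj] at e
  exact smul_left_injective F hv e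

theorem commute_iff (hm : 2 ≤ m) {v w : V} {a b : F} (ha : a ≠ 0) (hb : b ≠ 0) (hv : v ≠ 0) :
    Commute (P v a) (P w b) ↔ ω v w = 0 := by
  constructor
  · intro h
    by_contra hne
    obtain ⟨x, hx, h1, h2⟩ := exists_perp_pair hm v w
    have e : tS w b * tS v a = tS v a * tS w b := by
      refine eq_of_mk_eq (by omega) hx ?_ ?_ h.eq.symm <;> rw [mul_mulVec] <;> simp [h1, h2]
    have e2 := mul_inv_eq_iff_eq_mul.2 e
    rw [conj_tS, tS_mulVec] at e2
    have hne' : v + (b * ω v w) • w ≠ 0 := fun h0 => hne (by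
      have := congrArg (fun u => ω u w) h0
      simpa using this)
    obtain ⟨r, hr, -⟩ := eq_param ha hne' e2
    have h3 := congrArg (fun u => ω u w) hr
    simp only [map_add, map_smul, LinearMap.add_apply, LinearMap.smul_apply, self, smul_eq_mul, mul_zero,
      add_zero] at h3
    have hr1 : r = 1 := mul_right_cancel₀ hne (h3.symm.trans (one_mul _).symm)
    rw [hr1, one_smul, add_eq_left, smul_eq_zero] at hr
    rcases hr with hr | hr
    · exact (mul_ne_zero hb hne) hr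
    · exact hne (by rw [hr, map_zero])
  · intro h
    show _ = _
    rw [P, P, ← QuotientGroup.mk_mul, ← QuotientGroup.mk_mul]
    refine congrArg QuotientGroup.mk (ext_sp fun x => ?_)
    rw [mul_mulVec, mul_mulVec]
    simp only [tS_mulVec, map_add, map_smul, LinearMap.add_apply, LinearMap.smul_apply, h, swap v w, neg_zero,
      smul_zero, add_zero]
    abel

theorem braid (hm : 2 ≤ m) {v w : V} {a b : F} (ha : a ≠ 0) (hs : ω v w ≠ 0) :
    P v a * P w b * P v a = P w b * P v a * P w b ↔ a * b * (ω v w * ω v w) = 1 := by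
  have hv : v ≠ 0 := fun e => hs (by simp [e])
  have hgv : (tS v a * tS w b).1 *ᵥ v = (1 - a * b * (ω v w * ω v w)) • v + (b * ω v w) • w := by
    rw [mul_mulVec]
    simp only [tS_mulVec, map_add, map_smul, LinearMap.add_apply, LinearMap.smul_apply, self, swap v w,
      smul_eq_mul, add_zero, zero_add]
    module
  have hsp : P v a * P w b * P v a = P w b * P v a * P w b ↔
      tS ((tS v a * tS w b).1 *ᵥ v) a = tS w b := by
    rw [← conj_tS, mul_inv_eq_iff_eq_mul]
    constructor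
    · intro h
      obtain ⟨x, hx, h1, h2⟩ := exists_perp_pair hm v w
      rw [← mul_assoc]
      refine eq_of_mk_eq (by omega) hx ?_ ?_ h <;> simp only [mul_mulVec] <;> simp [h1, h2]
    · intro h
      simp only [P, ← QuotientGroup.mk_mul]
      rw [h, mul_assoc]
  rw [hsp]
  constructor
  · intro h
    have hne : (tS v a * tS w b).1 *ᵥ v ≠ 0 := mulVec_ne_zero _ hv
    obtain ⟨r, hr, -⟩ := eq_param ha hne h
    rw [hgv] at hr
    have e := congrArg (fun u => ω u w) hr
    simp only [map_add, map_smul, LinearMap.add_apply, LinearMap.smul_apply, self, smul_eq_mul, mul_zero,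
      add_zero] at e
    rcases mul_eq_zero.1 e with e | e
    · linear_combination -e
    · exact absurd e hs
  · intro h
    rw [hgv, h, sub_self, zero_smul, zero_add, tS_smul]
    congr 1
    linear_combination b * h

/-! ### The standard automorphisms -/

/-- An automorphism of `Sp` read on the central quotient. -/
def toP : MulAut Sp →* MulAut PS where
  toFun e := QuotientGroup.congr (Subgroup.center Sp) (Subgroup.center Sp) e
    (Subgroup.characteristic_iff_map_eq.1 inferInstance e)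
  map_one' := MulEquiv.ext fun x => by induction x using QuotientGroup.induction_on; rfl
  map_mul' a b := MulEquiv.ext fun x => by induction x using QuotientGroup.induction_on; rfl

@[simp] theorem toP_mk (e : MulAut Sp) (s : Sp) : toP e (QuotientGroup.mk s) = QuotientGroup.mk (e s) := rfl

theorem mem_GSp_iff {g : GL (Fin m ⊕ Fin m) F} :
    g ∈ Cfsg.GSp m F ↔ ∃ μ : Fˣ, ∀ x y, ω (g.1 *ᵥ x) (g.1 *ᵥ y) = (μ : F) * ω x y := by
  simp_rw [sympBilin_apply]
  exact Iff.rfl

theorem conj_mem (g : Cfsg.GSp m F) (s : Sp) :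
    ((g : GL (Fin m ⊕ Fin m) F) * spToGL s * (g : GL (Fin m ⊕ Fin m) F)⁻¹).1 ∈
      Matrix.symplecticGroup (Fin m) F := by
  rw [mem_symplecticGroup_iff_spGL, mem_spGL_iff]
  obtain ⟨μ, hμ⟩ := mem_GSp_iff.1 g.2
  intro x y
  simp only [Units.val_mul, ← mulVec_mulVec, coe_spToGL]
  rw [hμ, iso, ← hμ, mulVec_mulVec, mulVec_mulVec, Units.mul_inv, one_mulVec, one_mulVec]

/-- Conjugation by a similitude, as a map of `Sp`. -/
def conjFun (g : Cfsg.GSp m F) (s : Sp) : Sp := ⟨_, conj_mem g s⟩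

theorem coe_conjFun (g : Cfsg.GSp m F) (s : Sp) :
    spToGL (conjFun g s) = (g : GL (Fin m ⊕ Fin m) F) * spToGL s * (g : GL (Fin m ⊕ Fin m) F)⁻¹ :=
  Units.ext (coe_spToGL _)

/-- Conjugation by a similitude, on `Sp`. -/
def conjSp : Cfsg.GSp m F →* MulAut Sp where
  toFun g :=
    { toFun := conjFun g
      invFun := conjFun g⁻¹
      left_inv := fun s => Cfsg.Lib.Classical.spToGL_injective (by
        rw [coe_conjFun, coe_conjFun, Subgroup.coe_inv]; group)
      right_inv := fun s => Cfsg.Lib.Classical.spToGL_injective (by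
        rw [coe_conjFun, coe_conjFun, Subgroup.coe_inv]; group)
      map_mul' := fun s t => Cfsg.Lib.Classical.spToGL_injective (by
        rw [map_mul, coe_conjFun, coe_conjFun, coe_conjFun, map_mul]; group) }
  map_one' := MulEquiv.ext fun s => Cfsg.Lib.Classical.spToGL_injective (by
    show spToGL (conjFun 1 s) = spToGL s
    rw [coe_conjFun, Subgroup.coe_one, one_mul, inv_one, mul_one])
  map_mul' a b := MulEquiv.ext fun s => Cfsg.Lib.Classical.spToGL_injective (by
    show spToGL (conjFun (a * b) s) = spToGL (conjFun a (conjFun b s))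
    rw [coe_conjFun, coe_conjFun, coe_conjFun, Subgroup.coe_mul]; group)

@[simp] theorem coe_conjSp (g : Cfsg.GSp m F) (s : Sp) :
    (conjSp g s : Sp).1 = (g : GL (Fin m ⊕ Fin m) F).1 * s.1 * ((g : GL (Fin m ⊕ Fin m) F)⁻¹).1 := by
  have := congrArg Units.val (coe_conjFun g s)
  rw [Units.val_mul, Units.val_mul, coe_spToGL, coe_spToGL] at this
  exact this

theorem map_mem (σ : F ≃+* F) {s : Matrix (Fin m ⊕ Fin m) (Fin m ⊕ Fin m) F}
    (hs : s ∈ Matrix.symplecticGroup (Fin m) F) : s.map σ ∈ Matrix.symplecticGroup (Fin m) F := by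
  rw [SymplecticGroup.mem_iff] at hs ⊢
  have hJ : (Matrix.J (Fin m) F).map σ = Matrix.J (Fin m) F := by
    ext i j
    rcases i with i | i <;> rcases j with j | j <;>
      simp [Matrix.J, Matrix.one_apply, apply_ite (f := (σ : F → F))]
  have e := congrArg (fun M => M.map (σ : F →+* F)) hs
  simp only [Matrix.map_mul] at e
  show s.map σ * Matrix.J (Fin m) F * (s.map σ)ᵀ = Matrix.J (Fin m) F
  rw [← transpose_map]
  conv_lhs => rw [← hJ]
  conv_rhs => rw [← hJ]
  exact e

/-- A field automorphism on `Sp`. -/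
def frobSp (σ : F ≃+* F) : MulAut Sp where
  toFun s := ⟨s.1.map σ, map_mem σ s.2⟩
  invFun s := ⟨s.1.map σ.symm, map_mem σ.symm s.2⟩
  left_inv s := Subtype.ext (by ext i j; simp)
  right_inv s := Subtype.ext (by ext i j; simp)
  map_mul' s t := Subtype.ext (Matrix.map_mul (f := (σ : F →+* F)))

@[simp] theorem coe_frobSp (σ : F ≃+* F) (s : Sp) : (frobSp σ s : Sp).1 = s.1.map σ := rfl

/-- `g ↦` the automorphism of `PSp` induced by conjugation. -/
def conjP : Cfsg.GSp m F →* MulAut PS := toP.comp conjSp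

/-- The standard field automorphism. -/
def frobP (σ : F ≃+* F) : MulAut PS := toP (frobSp σ)

@[simp] theorem conjP_mk (g : Cfsg.GSp m F) (s : Sp) :
    conjP g (QuotientGroup.mk s) = QuotientGroup.mk (conjSp g s) := rfl

@[simp] theorem frobP_mk (σ : F ≃+* F) (s : Sp) :
    frobP σ (QuotientGroup.mk s) = QuotientGroup.mk (frobSp σ s) := rfl

theorem conjP_P (g : Cfsg.GSp m F) {μ : F} (hμ0 : μ ≠ 0)
    (hμ : ∀ x y, ω ((g : GL (Fin m ⊕ Fin m) F).1 *ᵥ x) ((g : GL (Fin m ⊕ Fin m) F).1 *ᵥ y) = μ * ω x y)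
    (v : V) (c : F) : conjP g (P v c) = P ((g : GL (Fin m ⊕ Fin m) F).1 *ᵥ v) (c / μ) := by
  rw [P, conjP_mk, P]
  refine congrArg QuotientGroup.mk (Subtype.ext ?_)
  rw [coe_conjSp, tS, tS]
  have e := congrArg Units.val (Cfsg.Lib.Classical.conj_sTGL ω (sympBilin_isAlt F m) g.1 hμ0 hμ v c)
  simpa [Units.val_mul] using e

theorem map_mulVec' (σ : F ≃+* F) (M : Matrix (Fin m ⊕ Fin m) (Fin m ⊕ Fin m) F) (x : V) :
    (fun i => σ ((M *ᵥ x) i)) = M.map σ *ᵥ fun i => σ (x i) :=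
  funext fun i => RingHom.map_mulVec (σ : F →+* F) M x i

theorem omega_map (σ : F ≃+* F) (x y : V) : ω (fun i => σ (x i)) (fun i => σ (y i)) = σ (ω x y) := by
  rw [sympBilin_apply, sympBilin_apply, Cfsg.Lib.Classical.sympForm_eq_sum, Cfsg.Lib.Classical.sympForm_eq_sum,
    map_sum]
  simp

theorem frobP_P (σ : F ≃+* F) (v : V) (c : F) : frobP σ (P v c) = P (fun i => σ (v i)) (σ c) := by
  rw [P, frobP_mk, P]
  refine congrArg QuotientGroup.mk (ext_sp fun x => ?_)
  obtain ⟨y, rfl⟩ : ∃ y : V, x = fun i => σ (y i) := ⟨fun i => σ.symm (x i), by simp⟩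
  rw [coe_frobSp, ← map_mulVec', tS_mulVec, tS_mulVec, omega_map]
  funext i
  simp

theorem frobP_mul (σ τ : F ≃+* F) : frobP (m := m) σ * frobP τ = frobP (σ * τ) := by
  rw [frobP, frobP, frobP, ← map_mul]
  congr 1

theorem frobP_one : frobP (m := m) (1 : F ≃+* F) = 1 := by
  rw [frobP, ← map_one toP]
  congr 1

/-- Apply a field automorphism to a similitude. -/
def mapG (σ : F ≃+* F) (g : Cfsg.GSp m F) : Cfsg.GSp m F :=
  ⟨Matrix.GeneralLinearGroup.map (σ : F →+* F) g.1, by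
    obtain ⟨μ, hμ⟩ := mem_GSp_iff.1 g.2
    refine mem_GSp_iff.2 ⟨Units.map (σ : F →* F) μ, fun x y => ?_⟩
    obtain ⟨x', rfl⟩ : ∃ x' : V, x = fun i => σ (x' i) := ⟨fun i => σ.symm (x i), by simp⟩
    obtain ⟨y', rfl⟩ : ∃ y' : V, y = fun i => σ (y' i) := ⟨fun i => σ.symm (y i), by simp⟩
    show ω ((g.1.1.map σ) *ᵥ _) ((g.1.1.map σ) *ᵥ _) = σ (μ : F) * _
    rw [← map_mulVec', ← map_mulVec', omega_map, omega_map, hμ, map_mul]⟩

@[simp] theorem coe_mapG (σ : F ≃+* F) (g : Cfsg.GSp m F) :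
    ((mapG σ g : Cfsg.GSp m F) : GL (Fin m ⊕ Fin m) F).1 = g.1.1.map σ := rfl

theorem frobP_conjP (σ : F ≃+* F) (g : Cfsg.GSp m F) : frobP σ * conjP g = conjP (mapG σ g) * frobP σ := by
  rw [frobP, conjP, MonoidHom.comp_apply, MonoidHom.comp_apply, ← map_mul, ← map_mul]
  congr 1
  refine MulEquiv.ext fun s => Subtype.ext ?_
  simp only [MulAut.mul_apply, coe_frobSp, coe_conjSp]
  show (g.1.1 * s.1 * (g.1⁻¹).1).map (σ : F →+* F) = _
  rw [Matrix.map_mul, Matrix.map_mul]
  rfl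

theorem isInnerDiagonal_iff {β : MulAut PS} : IsInnerDiagonalAutPSp β ↔ ∃ g, β = conjP g := by
  constructor
  · rintro ⟨g, hg, h⟩
    refine ⟨⟨g, hg⟩, MulEquiv.ext fun x => ?_⟩
    induction x using QuotientGroup.induction_on with
    | H s => exact h s (conjSp ⟨g, hg⟩ s) (by rw [coe_conjSp]; simp)
  · rintro ⟨g, rfl⟩
    refine ⟨g.1, g.2, fun s s' h => congrArg QuotientGroup.mk (Subtype.ext ?_)⟩
    refine (coe_conjSp g s).trans ?_
    rw [h]
    simp

theorem isStdField_iff {σ : F ≃+* F} {β : MulAut PS} : IsStdFieldAutPSp σ β ↔ β = frobP σ := by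
  constructor
  · intro h
    refine MulEquiv.ext fun x => ?_
    induction x using QuotientGroup.induction_on with
    | H s => exact h s (frobSp σ s) rfl
  · rintro rfl s s' h
    exact congrArg QuotientGroup.mk (Subtype.ext h.symm)

theorem inndiag_eq : inndiagPSp m F = (conjP (m := m) (F := F)).range := by
  refine le_antisymm ((Subgroup.closure_le _).2 fun β hβ => ?_) ?_
  · obtain ⟨g, rfl⟩ := isInnerDiagonal_iff.1 hβ
    exact ⟨g, rfl⟩
  · rintro β ⟨g, rfl⟩
    exact Subgroup.subset_closure (isInnerDiagonal_iff.2 ⟨g, rfl⟩)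

theorem mem_gamma (g : Cfsg.GSp m F) (σ : F ≃+* F) : conjP g * frobP σ ∈ gammaPSp m F := by
  refine Subgroup.subset_closure ⟨g.1, σ, g.2, fun s s' h => congrArg QuotientGroup.mk (Subtype.ext ?_)⟩
  refine (coe_conjSp g (frobSp σ s)).trans ?_
  rw [h]
  rfl

end Cfsg.Lib.Classical.PSpAut
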