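/-
Speiser's theorem for an arbitrary index type and symplectic bases.
-/
import Mathlib
import Cfsg.Agent.Lib.Classical.PSLAut.Field
import Cfsg.Agent.Lib.Classical.SymplecticMatrix

set_option autoImplicit false

open scoped Classical

namespace Cfsg.Lib.Classical.PSpAut

open Matrix
open scoped MatrixGroups

variable {F : Type*} [Field F]

/-- The semilinear map `v ↦ g σ(v)`. -/
def semiV {ι : Type*} [Fintype ι] [DecidableEq ι] (g : GL ι F) (σ : F ≃+* F) (v : ι → F) : ι → F :=
  (g : Matrix ι ι F) *ᵥ fun k => σ (v k)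

/-- **Speiser**, for an arbitrary index type. -/
theorem speiserV {ι : Type*} [Fintype ι] [DecidableEq ι] (g : GL ι F) (σ : F ≃+* F) {r : ℕ}
    (hr : orderOf σ = r) (hr0 : 0 < r) (hT : ∀ v, (semiV g σ)^[r] v = v) :
    ∃ a : GL ι F, (g : Matrix ι ι F) * (a : Matrix ι ι F).map σ = a := by
  let e := Fintype.equivFin ι
  let g' : GL (Fin (Fintype.card ι)) F := Units.map (Matrix.reindexAlgEquiv F F e : Matrix ι ι F →* _) g
  have hsemi : ∀ v, Cfsg.Lib.Classical.FinField.semi g' σ v = fun k => semiV g σ (v ∘ e) (e.symm k) := fun v => by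
    funext k
    show ((g : Matrix ι ι F).submatrix e.symm e.symm *ᵥ fun k => σ (v k)) k = _
    rw [submatrix_mulVec_equiv, Equiv.symm_symm]
    rfl
  have hit : ∀ (n : ℕ) v, (Cfsg.Lib.Classical.FinField.semi g' σ)^[n] v =
      fun k => (semiV g σ)^[n] (v ∘ e) (e.symm k) := by
    intro n
    induction n with
    | zero => intro v; funext k; simp
    | succ n ih =>
      intro v
      rw [Function.iterate_succ_apply', ih, hsemi]
      funext k
      rw [Function.iterate_succ_apply']
      congr 2
      funext i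
      simp
  obtain ⟨a, ha⟩ := Cfsg.Lib.Classical.FinField.speiser g' σ hr hr0 fun v => by
    rw [hit]; funext k; rw [hT]; simp
  refine ⟨Units.map (Matrix.reindexAlgEquiv F F e.symm : Matrix _ _ F →* _) a, ?_⟩
  show (g : Matrix ι ι F) * ((a : Matrix _ _ F).submatrix e e).map σ = (a : Matrix _ _ F).submatrix e e
  have ha' : ((g : Matrix ι ι F).submatrix e.symm e.symm) * (a : Matrix _ _ F).map σ = (a : Matrix _ _ F) := ha
  conv_rhs => rw [← ha', ← submatrix_mul_equiv _ _ e e e, submatrix_submatrix, Equiv.symm_comp_self, submatrix_id_id]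
  rfl

section Symp

variable {V : Type*} [AddCommGroup V] [Module F V] (B : LinearMap.BilinForm F V)

theorem exists_symp_family (hA : B.IsAlt) [FiniteDimensional F V] : ∀ (k : ℕ) (W : Submodule F V),
    Cfsg.Lib.Classical.NondegOn B W → 2 * k ≤ Module.finrank F W →
      ∃ u v : Fin k → V, (∀ i, u i ∈ W ∧ v i ∈ W) ∧
        ∀ i j, B (u i) (u j) = 0 ∧ B (v i) (v j) = 0 ∧ B (v i) (u j) = (if i = j then 1 else 0) := by
  intro k
  induction k with
  | zero => exact fun W _ _ => ⟨Fin.elim0, Fin.elim0, fun i => i.elim0, fun i => i.elim0⟩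
  | succ k ih =>
    intro W hW hk
    obtain ⟨a, ha, ha0⟩ := W.exists_mem_ne_zero_of_ne_bot (fun e => by
      rw [e, finrank_bot] at hk; omega)
    obtain ⟨z, hz, haz⟩ := hW a ha ha0
    obtain ⟨b, hb, hba⟩ : ∃ b ∈ W, B b a = 1 :=
      ⟨(B z a)⁻¹ • z, W.smul_mem _ hz, by
        rw [map_smul, LinearMap.smul_apply, smul_eq_mul]
        exact inv_mul_cancel₀ (by rw [Cfsg.Lib.Classical.alt_swap hA a z]; exact neg_ne_zero.2 haz)⟩
    have hab : B a b = -1 := by rw [Cfsg.Lib.Classical.alt_swap hA b a, hba]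
    have haa : B a a = 0 := hA a
    have hbb : B b b = 0 := hA b
    let W' : Submodule F V := W ⊓ (LinearMap.ker (B.flip a) ⊓ LinearMap.ker (B.flip b))
    have hmem : ∀ x, x ∈ W' ↔ x ∈ W ∧ B x a = 0 ∧ B x b = 0 := fun x => by simp [W']
    have hW' : Cfsg.Lib.Classical.NondegOn B W' := by
      intro w hw hw0
      obtain ⟨hwW, hwa, hwb⟩ := (hmem w).1 hw
      obtain ⟨y, hy, hwy⟩ := hW w hwW hw0
      refine ⟨y + (B y b) • a + (-B y a) • b, (hmem _).2 ⟨W.add_mem (W.add_mem hy (W.smul_mem _ ha))
        (W.smul_mem _ hb), ?_, ?_⟩, ?_⟩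
      · simp only [map_add, map_smul, LinearMap.add_apply, LinearMap.smul_apply, haa, hba, smul_eq_mul]; ring
      · simp only [map_add, map_smul, LinearMap.add_apply, LinearMap.smul_apply, hab, hbb, smul_eq_mul]; ring
      · simpa [map_add, map_smul, hwa, hwb] using hwy
    have hdim : 2 * k ≤ Module.finrank F W' := by
      let L : W →ₗ[F] F × F := ((B.flip a).comp W.subtype).prod ((B.flip b).comp W.subtype)
      have h1 := L.finrank_range_add_finrank_ker
      have h2 : Module.finrank F (LinearMap.range L) ≤ 2 := (Submodule.finrank_le _).trans (by simp)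
      have h3 : W' = (LinearMap.ker L).map W.subtype := by
        ext x
        rw [hmem, Submodule.mem_map]
        constructor
        · rintro ⟨h, h'⟩; exact ⟨⟨x, h⟩, by simpa [L] using h', rfl⟩
        · rintro ⟨y, hy, rfl⟩; exact ⟨y.2, by simpa [L] using hy⟩
      rw [h3, (Submodule.equivMapOfInjective _ W.injective_subtype _).finrank_eq.symm]
      omega
    obtain ⟨u, v, hmem', huv⟩ := ih W' hW' hdim
    have hu := fun i => (hmem _).1 (hmem' i).1
    have hv := fun i => (hmem _).1 (hmem' i).2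
    have hswap : ∀ {x y : V}, B x y = 0 → B y x = 0 := fun {x y} h => by
      rw [Cfsg.Lib.Classical.alt_swap hA x y, h, neg_zero]
    refine ⟨Fin.cons a u, Fin.cons b v, fun i => ?_, fun i j => ?_⟩
    · induction i using Fin.cases with
      | zero => exact ⟨ha, hb⟩
      | succ i => exact ⟨(hu i).1, (hv i).1⟩
    · induction i using Fin.cases <;> induction j using Fin.cases <;>
        simp [haa, hbb, hba, (hu _).2.1, (hv _).2.2, hswap (hu _).2.1, hswap (hv _).2.2, hswap (hu _).2.2,
          (hv _).2.1, huv, Fin.succ_inj, Fin.succ_ne_zero, (Fin.succ_ne_zero _).symm]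

end Symp

end Cfsg.Lib.Classical.PSpAut
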